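import Groth.Agent.Lib.JacobsonDim4
import Groth.Agent.Lib.EGA43Top.Goldman
import Groth.Agent.Lib.PtSet.Constr
import Groth.Agent.Lib.UCat.Universal
import Groth.Agent.Lib.UCat.Colimit
import Mathlib.AlgebraicGeometry.Morphisms.FinitePresentation
import Mathlib.AlgebraicGeometry.Noetherian

/-!
# Dimension of closures of points over a universally catenary local ring
-/

set_option autoImplicit false
universe u

open CategoryTheory AlgebraicGeometry Topology TopologicalSpace Order

set_option backward.isDefEq.respectTransparency.types false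

namespace Groth.Agent.DimCl23

open EquidimStalk4 FibDim14 DimEqScheme4 JacobsonDim4

section Base

variable (A : Type u) [CommRing A] [IsNoetherianRing A] [IsLocalRing A]

variable {A}

theorem cat_stalk (hA : CAlg.IsUniversallyCatenary A) (p : ↥(Spec (CommRingCat.of A))) :
    CAlg.IsUniversallyCatenary ((Spec (CommRingCat.of A)).presheaf.stalk p) := by
  have h := UCat.isUniversallyCatenary_of_essFiniteType A (Localization.AtPrime p.asIdeal) hA
  let e : Localization.AtPrime p.asIdeal ≃+* (Spec (CommRingCat.of A)).presheaf.stalk p :=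
    (StructureSheaf.stalkIso A p).toRingEquiv
  exact UCat.isUniversallyCatenary_of_surjective e.toRingHom e.surjective h

theorem specializes_closedPoint (a : ↥(Spec (CommRingCat.of A))) : a ⤳ (IsLocalRing.closedPoint A : PrimeSpectrum A) :=
  (PrimeSpectrum.le_iff_specializes _ _).1 (IsLocalRing.le_maximalIdeal (a : PrimeSpectrum A).2.ne_top)

/-- The local ring of a closure at the closed point has the dimension of the quotient. -/
theorem dim_cl_closedPoint (q : PrimeSpectrum A) (w : Cl (X := Spec (CommRingCat.of A)) q)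
    (hw : clι (X := Spec (CommRingCat.of A)) q w = (IsLocalRing.closedPoint A : PrimeSpectrum A)) :
    ringKrullDim ((Cl (X := Spec (CommRingCat.of A)) q).presheaf.stalk w) = ringKrullDim (A ⧸ q.asIdeal) := by
  rw [dim_interval w hw, ← PrimeSpectrum.topologicalKrullDim_eq_ringKrullDim]
  have hr : Set.range (PrimeSpectrum.comap (Ideal.Quotient.mk q.asIdeal)) =
      {a : ↥(Spec (CommRingCat.of A)) | (q : ↥(Spec (CommRingCat.of A))) ⤳ a ∧ a ⤳ (IsLocalRing.closedPoint A : PrimeSpectrum A)} := by
    rw [EGA43Top.range_comap_quotient]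
    ext a
    exact ⟨fun h => ⟨specializes_iff_mem_closure.2 h, specializes_closedPoint a⟩,
      fun h => specializes_iff_mem_closure.1 h.1⟩
  exact (IsHomeomorph.topologicalKrullDim_eq _ ((EGA43Top.isClosedEmbedding_quotient q.asIdeal).isEmbedding.toHomeomorph.trans
    (Homeomorph.setCongr hr)).isHomeomorph).symm

/-- Heights in the closure of a point and dimensions of quotients. -/
theorem dim_cl_add (hA : CAlg.IsUniversallyCatenary A) {p q : PrimeSpectrum A} (v : Cl (X := Spec (CommRingCat.of A)) p)
    (hv : clι (X := Spec (CommRingCat.of A)) p v = q) :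
    ringKrullDim (A ⧸ q.asIdeal) + ringKrullDim ((Cl (X := Spec (CommRingCat.of A)) p).presheaf.stalk v) = ringKrullDim (A ⧸ p.asIdeal) := by
  have hpq : (p : ↥(Spec (CommRingCat.of A))) ⤳ (q : ↥(Spec (CommRingCat.of A))) := hv ▸ specializes_clι _ v
  obtain ⟨w, hw⟩ := exists_preimage (X := Spec (CommRingCat.of A)) (t := p)
    (x := (IsLocalRing.closedPoint A : PrimeSpectrum A)) (hpq.trans (specializes_closedPoint q))
  obtain ⟨w', hw'⟩ := exists_preimage (X := Spec (CommRingCat.of A)) (t := q)
    (x := (IsLocalRing.closedPoint A : PrimeSpectrum A)) (specializes_closedPoint q)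
  haveI : IsLocallyNoetherian (Spec (CommRingCat.of A)) := inferInstance
  rw [← dim_cl_closedPoint q w' hw', ← dim_cl_closedPoint p w hw, ringKrullDim_stalk_eq_coheight v]
  exact dim_cl_add_coheight hpq (specializes_closedPoint q) (cat_stalk hA _) w hw w' hw' v hv

variable {X : Scheme.{u}} (f : X ⟶ Spec (CommRingCat.of A)) [LocallyOfFiniteType f] [QuasiCompact f]

theorem dim_quotient_image (z : X) (hz : IsClosed ({z} : Set X))
    (hne : f z ≠ (IsLocalRing.closedPoint A : PrimeSpectrum A)) :
    ringKrullDim (A ⧸ (f z).asIdeal) = 1 := by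
  haveI : IsLocallyNoetherian (Spec (CommRingCat.of A)) := inferInstance
  haveI : LocallyOfFinitePresentation f :=
    { finitePresentation_appLE := fun {U} hU {V} hV le =>
        haveI := IsLocallyNoetherian.component_noetherian (X := Spec (CommRingCat.of A)) ⟨U, hU⟩
        RingHom.FinitePresentation.of_finiteType.mp (f.finiteType_appLE hU hV le) }
  haveI : IsLocallyNoetherian X := LocallyOfFiniteType.isLocallyNoetherian f
  haveI : CompactSpace X := QuasiCompact.compactSpace_of_compactSpace f
  haveI : AlgebraicGeometry.IsNoetherian X := { }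
  have hc : IsConstructible ({z} : Set X) := by
    rw [← isConstructible_compl]
    exact ((NoetherianSpace.isCompact _).isConstructible hz.isOpen_compl)
  have hq : IsConstructible ({f z} : Set ↥(Spec (CommRingCat.of A))) := by
    have := f.isConstructible_image hc
    rwa [Set.image_singleton] at this
  obtain ⟨T, -, hT, hT'⟩ := PtSet.exists_finite_isLocallyClosed_of_isConstructible hq
  have hlc : IsLocallyClosed ({f z} : Set ↥(Spec (CommRingCat.of A))) := by
    obtain ⟨t, ht, hzt⟩ := Set.mem_sUnion.1 ((Set.ext_iff.1 hT' (f z)).1 (Set.mem_singleton _))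
    have : t = {f z} := Set.eq_singleton_iff_unique_mem.2
      ⟨hzt, fun y hy => (Set.ext_iff.1 hT' y).2 (Set.mem_sUnion.2 ⟨t, ht, hy⟩)⟩
    exact this ▸ hT t ht
  refine le_antisymm (EGA43Top.finite_closure_of_isLocallyClosed_singleton hlc).2.1 ?_
  by_contra h
  haveI : Ring.KrullDimLE 0 (A ⧸ (f z).asIdeal) := by
    rw [Ring.krullDimLE_iff, Nat.cast_zero]
    have h' := not_le.1 h
    revert h'
    induction ringKrullDim (A ⧸ (f z).asIdeal) with
    | bot => exact fun _ => bot_le
    | coe v =>
      intro h'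
      have hv : v < 1 := WithBot.coe_lt_coe.1 h'
      exact WithBot.coe_le_coe.2 (Order.lt_one_iff.1 hv).le
  refine hne (PrimeSpectrum.ext ?_)
  haveI hmax : (f z).asIdeal.IsMaximal := (Ideal.Quotient.maximal_ideal_iff_isField_quotient _).2
    Ring.KrullDimLE.isField_of_isDomain
  exact IsLocalRing.eq_maximalIdeal hmax

end Base

section Main

variable {A : Type u} [CommRing A] [IsNoetherianRing A] [IsLocalRing A]
variable {X : Scheme.{u}} (f : X ⟶ Spec (CommRingCat.of A)) [LocallyOfFiniteType f]

theorem rd_of_isClosed {z : X} (hz : IsClosed ({z} : Set X)) : rd f z = 0 := by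
  obtain ⟨z', hz'⟩ : ∃ z', f.fiberι (f z) z' = z := ⟨f.asFiber z, f.fiberι_asFiber z⟩
  rw [← hz', rd_fiberι]
  refine (VarDim.sdim_eq_zero_iff_isClosed (toPt f (f z)) z').2 ?_
  have : ({z'} : Set (f.fiber (f z))) = f.fiberι (f z) ⁻¹' {z} := by
    ext y
    refine ⟨fun h => ?_, fun h => (f.fiberι (f z)).isEmbedding.injective (h.trans hz'.symm)⟩
    rw [Set.mem_singleton_iff.1 h]
    exact hz'
  rw [this]
  exact hz.preimage (f.fiberι (f z)).continuous

variable [QuasiCompact f]

/-- The stalks at the closed points of the closure of a point. -/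
theorem dim_stalk_closed (hA : CAlg.IsUniversallyCatenary A) (x : X) (a b : ℕ)
    (ha : ringKrullDim (A ⧸ (f x).asIdeal) = a) (hb : rd f x = b) (w : Cl x) (hw : IsClosed ({clι x w} : Set X)) :
    ∃ n : ℕ, coheight w = n ∧
      (f (clι x w) = (IsLocalRing.closedPoint A : PrimeSpectrum A) → n = a + b) ∧
      (f (clι x w) ≠ (IsLocalRing.closedPoint A : PrimeSpectrum A) → n + 1 = a + b) := by
  obtain ⟨v, hv⟩ := exists_preimage ((specializes_clι x w).map f.continuous)
  have h1 := dim_stalk_cl_eq f w (cat_stalk hA _) v hv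
  rw [rd_of_isClosed f hw, hb, Nat.cast_zero, add_zero] at h1
  have h2 := dim_cl_add hA v hv
  rw [ha] at h2
  rw [ringKrullDim_stalk_eq_coheight, ringKrullDim_stalk_eq_coheight] at h1
  rw [ringKrullDim_stalk_eq_coheight] at h2
  generalize coheight v = cv at h1 h2
  generalize hcw : coheight w = cw at h1
  by_cases hm : f (clι x w) = (IsLocalRing.closedPoint A : PrimeSpectrum A)
  · have h0 : ringKrullDim (A ⧸ (f (clι x w)).asIdeal) = 0 := by
      rw [hm]
      exact ringKrullDim_eq_zero_of_field (IsLocalRing.ResidueField A)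
    rw [h0, zero_add] at h2
    have hcv : cv = (a : ℕ∞) := WithBot.coe_injective h2
    subst hcv
    refine ⟨a + b, WithBot.coe_injective (h1.trans (by push_cast; rfl)), fun _ => rfl, fun h => absurd hm h⟩
  · rw [dim_quotient_image f _ hw hm] at h2
    have hcv : 1 + cv = (a : ℕ∞) := WithBot.coe_injective h2
    obtain ⟨c, rfl⟩ := ENat.ne_top_iff_exists.1 (fun h : cv = ⊤ => by simp [h] at hcv)
    have hc : 1 + c = a := by exact_mod_cast hcv
    refine ⟨c + b, WithBot.coe_injective (h1.trans (by push_cast; rfl)), fun h => absurd h hm, fun _ => by omega⟩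

theorem main (hA : CAlg.IsUniversallyCatenary A) (x : X) (a b d : ℕ)
    (ha : ringKrullDim (A ⧸ (f x).asIdeal) = a) (hb : rd f x = b)
    (hd : topologicalKrullDim ↥(closure ({x} : Set X)) = d) :
    ((closure ({x} : Set X) ∩ f ⁻¹' {((IsLocalRing.closedPoint A : PrimeSpectrum A) : ↥(Spec (CommRingCat.of A)))}).Nonempty →
        d = a + b) ∧
    (closure ({x} : Set X) ∩ f ⁻¹' {((IsLocalRing.closedPoint A : PrimeSpectrum A) : ↥(Spec (CommRingCat.of A)))} = ∅ →
        d + 1 = a + b) := by
  haveI : IsLocallyNoetherian X := LocallyOfFiniteType.isLocallyNoetherian f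
  haveI : CompactSpace X := QuasiCompact.compactSpace_of_compactSpace f
  have hdim : topologicalKrullDim ↥(closure ({x} : Set X)) = ⨆ w : Cl x, (coheight w : WithBot ℕ∞) := by
    haveI : Nonempty (Cl x) := ⟨(exists_gen x).choose⟩
    rw [show topologicalKrullDim ↥(closure ({x} : Set X)) = topologicalKrullDim (Cl x) from
      (IsHomeomorph.topologicalKrullDim_eq _ ((clι x).isEmbedding.toHomeomorph.trans
        (Homeomorph.setCongr (range_clι x))).isHomeomorph).symm,
      H12.topologicalKrullDim_eq_krullDim_specializationOrder]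
    exact Order.krullDim_eq_iSup_coheight
  have hclosed : ∀ (C : Set X), IsClosed C → C.Nonempty → ∃ z ∈ C, IsClosed ({z} : Set X) := fun C hC hne =>
    let ⟨z, hz, hz'⟩ := IsClosed.exists_closed_singleton hC hne
    ⟨z, hz, hz'⟩
  have hmax : ∀ w : Cl x, ∃ w' : Cl x, coheight w ≤ coheight w' ∧ IsClosed ({clι x w'} : Set X) := fun w => by
    obtain ⟨z, hz, hz'⟩ := hclosed _ (isClosed_closure (s := {clι x w})) ⟨_, subset_closure rfl⟩
    have hwz : clι x w ⤳ z := specializes_iff_mem_closure.2 hz
    obtain ⟨w', rfl⟩ := exists_preimage ((specializes_clι x w).trans hwz)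
    exact ⟨w', coheight_anti (Scheme.le_iff_specializes.2 ((clι x).isEmbedding.isInducing.specializes_iff.1 hwz)), hz'⟩
  rw [hdim] at hd
  constructor
  · intro hne
    obtain ⟨z, ⟨hz, hzm⟩, hzc⟩ := hclosed _ (isClosed_closure.inter
      ((IsLocalRing.isClosed_singleton_closedPoint A).preimage f.continuous)) hne
    obtain ⟨w₀, hw₀⟩ := exists_preimage (specializes_iff_mem_closure.2 hz)
    obtain ⟨n, hn, h1, -⟩ := dim_stalk_closed f hA x a b ha hb w₀ (hw₀.symm ▸ hzc)
    have hn' : n = a + b := h1 (hw₀.symm ▸ hzm)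
    refine Nat.cast_injective (R := WithBot ℕ∞) (hd.symm.trans (le_antisymm (iSup_le fun w => ?_) ?_))
    · obtain ⟨w', hle, hw'⟩ := hmax w
      obtain ⟨m, hm, h1', h2'⟩ := dim_stalk_closed f hA x a b ha hb w' hw'
      have : m ≤ a + b := by
        by_cases h : f (clι x w') = (IsLocalRing.closedPoint A : PrimeSpectrum A)
        · exact (h1' h).le
        · have := h2' h; omega
      rw [hm] at hle
      calc (coheight w : WithBot ℕ∞) ≤ ((m : ℕ∞) : WithBot ℕ∞) := WithBot.coe_le_coe.2 hle
        _ ≤ _ := by exact_mod_cast this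
    · refine le_trans (le_of_eq ?_) (le_iSup _ w₀)
      rw [hn, hn']
      rfl
  · intro he
    obtain ⟨w₁, -, hw₁⟩ := hmax (exists_gen x).choose
    obtain ⟨n, hn, -, h2⟩ := dim_stalk_closed f hA x a b ha hb w₁ hw₁
    have hne : ∀ w : Cl x, f (clι x w) ≠ (IsLocalRing.closedPoint A : PrimeSpectrum A) := fun w h =>
      (Set.eq_empty_iff_forall_notMem.1 he (clι x w)) ⟨specializes_iff_mem_closure.1 (specializes_clι x w), h⟩
    have hn' := h2 (hne w₁)
    have : d = n := Nat.cast_injective (R := WithBot ℕ∞) (hd.symm.trans (le_antisymm (iSup_le fun w => by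
      obtain ⟨w', hle, hw'⟩ := hmax w
      obtain ⟨m, hm, -, h2'⟩ := dim_stalk_closed f hA x a b ha hb w' hw'
      have hm' := h2' (hne w')
      rw [hm, show m = n by omega] at hle
      exact WithBot.coe_le_coe.2 hle) (le_trans (le_of_eq (by rw [hn]; rfl)) (le_iSup _ w₁))))
    omega

end Main

end Groth.Agent.DimCl23
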